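/-
Uniqueness of the non-split double cover of the alternating group of degree eight (owner: helper28).

Main results (namespace `Cfsg.Agent.McLCent`):
* `isPerfect_of_cover`
* `nonempty_mulEquiv_of_covers` : two non-split double covers are isomorphic
-/
import Cfsg.Agent.Lib.DoubleCoverAlt.Multiplier
import Cfsg.Prelude.Def_SporadicB
import Mathlib.GroupTheory.SpecificGroups.Alternating.Simple

set_option autoImplicit false

open scoped commutatorElement

namespace Cfsg.Agent.McLCent

open Subgroup

/-- A subgroup covering a group modulo its centre contains the derived subgroup. -/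
theorem commutator_le_of_sup_center {H : Type*} [Group H] {L : Subgroup H}
    (h : L ⊔ Subgroup.center H = ⊤) : commutator H ≤ L := by
  have hd : ∀ a : H, ∃ l ∈ L, ∃ z ∈ Subgroup.center H, a = l * z := fun a => by
    obtain ⟨l, hl, z, hz, e⟩ := Subgroup.mem_sup_of_normal_right.1 (h.ge (Subgroup.mem_top a))
    exact ⟨l, hl, z, hz, e.symm⟩
  rw [commutator_def, Subgroup.commutator_le]
  intro a _ b _
  obtain ⟨l, hl, z, hz, rfl⟩ := hd a
  obtain ⟨m, hm, w, hw, rfl⟩ := hd b
  have cz : ∀ x, z * x = x * z := fun x => (Subgroup.mem_center_iff.1 hz x).symm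
  have cw : ∀ x, w * x = x * w := fun x => (Subgroup.mem_center_iff.1 hw x).symm
  have e : ⁅l * z, m * w⁆ = ⁅l, m⁆ := by
    simp only [commutatorElement_def, mul_inv_rev]
    calc l * z * (m * w) * (z⁻¹ * l⁻¹) * (w⁻¹ * m⁻¹)
        = l * (z * (m * w)) * z⁻¹ * l⁻¹ * w⁻¹ * m⁻¹ := by group
      _ = l * m * (w * l⁻¹) * w⁻¹ * m⁻¹ := by rw [cz]; group
      _ = l * m * l⁻¹ * m⁻¹ := by rw [cw]; group
  rw [e, commutatorElement_def]
  exact mul_mem (mul_mem (mul_mem hl hm) (inv_mem hl)) (inv_mem hm)

theorem commutator_alternating_eight :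
    commutator ↥(alternatingGroup (Fin 8)) = ⊤ := by
  haveI := alternatingGroup.isSimpleGroup (α := Fin 8) (by simp)
  refine (Subgroup.Normal.eq_bot_or_eq_top (show (commutator ↥(alternatingGroup (Fin 8))).Normal by
    infer_instance)).resolve_left fun h => ?_
  let a : ↥(alternatingGroup (Fin 8)) := ⟨Equiv.swap 0 1 * Equiv.swap 2 3, by
    rw [Equiv.Perm.mem_alternatingGroup]; decide +kernel⟩
  let b : ↥(alternatingGroup (Fin 8)) := ⟨Equiv.swap 0 1 * Equiv.swap 1 2, by
    rw [Equiv.Perm.mem_alternatingGroup]; decide +kernel⟩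
  have hm : ⁅a, b⁆ ∈ commutator ↥(alternatingGroup (Fin 8)) :=
    Subgroup.commutator_mem_commutator (Subgroup.mem_top a) (Subgroup.mem_top b)
  rw [h, Subgroup.mem_bot, commutatorElement_eq_one_iff_mul_comm] at hm
  exact absurd hm (by decide +kernel)

variable {H : Type*} [Group H] [Finite H]

/-- The map onto the alternating group. -/
theorem exists_cover_hom (h : Cfsg.IsNonsplitDoubleCover H (alternatingGroup (Fin 8))) :
    ∃ σ : H →* ↥(alternatingGroup (Fin 8)), Function.Surjective σ ∧ σ.ker = Subgroup.center H := by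
  obtain ⟨-, ⟨e⟩, -⟩ := h
  refine ⟨e.toMonoidHom.comp (QuotientGroup.mk' _), e.surjective.comp (QuotientGroup.mk'_surjective _), ?_⟩
  ext x
  simp [MonoidHom.mem_ker]

/-- A non-split double cover is perfect. -/
theorem isPerfect_of_cover (h : Cfsg.IsNonsplitDoubleCover H (alternatingGroup (Fin 8))) :
    commutator H = ⊤ := by
  obtain ⟨σ, hσ, hker⟩ := exists_cover_hom h
  have hmap : (commutator H).map σ = ⊤ := by
    rw [commutator_def, Subgroup.map_commutator, Subgroup.map_top_of_surjective σ hσ, ← commutator_def,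
      commutator_alternating_eight]
  have hsup : commutator H ⊔ Subgroup.center H = ⊤ := by
    rw [← hker, ← Subgroup.comap_map_eq, hmap, Subgroup.comap_top]
  by_cases hle : Subgroup.center H ≤ commutator H
  · rwa [sup_eq_left.2 hle] at hsup
  exfalso
  have hbot : commutator H ⊓ Subgroup.center H = ⊥ := by
    rw [Subgroup.eq_bot_iff_forall]
    intro x hx
    by_contra hx1
    refine hle fun y hy => ?_
    have : Fact (Nat.Prime 2) := ⟨Nat.prime_two⟩
    have hz : Subgroup.zpowers x = Subgroup.center H :=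
      Subgroup.eq_of_le_of_card_ge (Subgroup.zpowers_le.2 hx.2) (by
        rw [h.1, Nat.card_zpowers]
        have h0 := orderOf_pos x
        have h1 : orderOf x ≠ 1 := fun e => hx1 (orderOf_eq_one_iff.1 e)
        omega)
    rw [← hz] at hy
    exact (Subgroup.zpowers_le.2 hx.1) hy
  refine h.2.2 (commutator H) (Subgroup.isComplement'_of_disjoint_and_mul_eq_univ ?_ ?_)
  · rw [disjoint_iff, inf_comm]; exact hbot
  · rw [← Subgroup.mul_normal, sup_comm, hsup, Subgroup.coe_top]

/-- A perfect extension of small order maps bijectively onto a double cover below it. -/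
theorem bijective_of_fac {E : Type*} [Group E] [Finite E] (P : Subgroup E)
    (hP2 : Nat.card ↥P ≤ 2 * Nat.card ↥(alternatingGroup (Fin 8))) {ρ : E →* ↥(alternatingGroup (Fin 8))}
    (hρP : P.map ρ = ⊤) (f : E →* H) (σ : H →* ↥(alternatingGroup (Fin 8)))
    (hH : Cfsg.IsNonsplitDoubleCover H (alternatingGroup (Fin 8))) (hk : σ.ker = Subgroup.center H)
    (hfac : σ.comp f = ρ) : Function.Bijective (f.comp P.subtype) := by
  have hs : Function.Surjective (f.comp P.subtype) := by
    rw [← MonoidHom.range_eq_top]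
    refine top_le_iff.1 ((isPerfect_of_cover hH).ge.trans (commutator_le_of_sup_center ?_))
    have hm : (f.comp P.subtype).range.map σ = ⊤ := by
      rw [MonoidHom.range_comp, Subgroup.range_subtype, Subgroup.map_map, hfac, hρP]
    rw [← hk, ← Subgroup.comap_map_eq, hm, Subgroup.comap_top]
  refine hs.bijective_of_nat_card_le (hP2.trans ?_)
  obtain ⟨hc, ⟨e⟩, -⟩ := hH
  rw [Subgroup.card_eq_card_quotient_mul_card_subgroup (Subgroup.center H), hc, Nat.card_congr e.toEquiv,
    mul_comm]

/-- Two non-split double covers of the alternating group of degree eight are isomorphic. -/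
theorem nonempty_mulEquiv_of_covers {K : Type*} [Group K] [Finite K]
    (hH : Cfsg.IsNonsplitDoubleCover H (alternatingGroup (Fin 8)))
    (hK : Cfsg.IsNonsplitDoubleCover K (alternatingGroup (Fin 8))) : Nonempty (H ≃* K) := by
  classical
  obtain ⟨σ, hσ, hσk⟩ := exists_cover_hom hH
  obtain ⟨τ, hτ, hτk⟩ := exists_cover_hom hK
  let E : Subgroup (H × K) :=
    { carrier := {p | σ p.1 = τ p.2}
      one_mem' := by simp
      mul_mem' := fun {a b} ha hb => by
        show σ (a * b).1 = τ (a * b).2
        rw [Prod.fst_mul, Prod.snd_mul, map_mul, map_mul, show σ a.1 = τ a.2 from ha,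
          show σ b.1 = τ b.2 from hb]
      inv_mem' := fun {a} ha => by
        show σ a⁻¹.1 = τ a⁻¹.2
        rw [Prod.fst_inv, Prod.snd_inv, map_inv, map_inv, show σ a.1 = τ a.2 from ha] }
  let ρ : ↥E →* ↥(alternatingGroup (Fin 8)) := σ.comp ((MonoidHom.fst H K).comp E.subtype)
  have hρ : Function.Surjective ρ := fun a => by
    obtain ⟨x, hx⟩ := hσ a
    obtain ⟨y, hy⟩ := hτ a
    exact ⟨⟨(x, y), hx.trans hy.symm⟩, hx⟩
  have hρc : ρ.ker ≤ Subgroup.center ↥E := by
    intro p hp
    have h1 : p.1.1 ∈ Subgroup.center H := hσk ▸ (MonoidHom.mem_ker.1 hp : σ p.1.1 = 1)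
    have h2 : p.1.2 ∈ Subgroup.center K := hτk ▸ (p.2.symm.trans (MonoidHom.mem_ker.1 hp) : τ p.1.2 = 1)
    exact Subgroup.mem_center_iff.2 fun q => Subtype.ext (Prod.ext (Subgroup.mem_center_iff.1 h1 q.1.1)
      (Subgroup.mem_center_iff.1 h2 q.1.2))
  let P : Subgroup ↥E := ⁅commutator ↥E, commutator ↥E⁆
  have hρP : P.map ρ = ⊤ := by
    show Subgroup.map ρ ⁅commutator ↥E, commutator ↥E⁆ = ⊤
    have hc : (commutator ↥E).map ρ = ⊤ := by
      rw [commutator_def, Subgroup.map_commutator, Subgroup.map_top_of_surjective ρ hρ, ← commutator_def,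
        commutator_alternating_eight]
    rw [Subgroup.map_commutator, hc, ← commutator_def, commutator_alternating_eight]
  have hPE : P ⊔ Subgroup.center ↥E = ⊤ := by
    refine top_le_iff.1 (le_trans ?_ (sup_le_sup_left hρc P))
    rw [← Subgroup.comap_map_eq, hρP, Subgroup.comap_top]
  have hPtop : commutator ↥E = P := le_antisymm (commutator_le_of_sup_center hPE)
    (Subgroup.commutator_mono le_top le_top)
  have hperf : commutator ↥P = ⊤ := by
    refine Subgroup.map_injective (Subgroup.subtype_injective P) ?_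
    rw [Subgroup.map_subtype_commutator, ← MonoidHom.range_eq_map, Subgroup.range_subtype]
    show ⁅P, P⁆ = P
    conv_rhs => rw [show P = ⁅commutator ↥E, commutator ↥E⁆ from rfl, hPtop]
  let π : ↥P →* Equiv.Perm (Fin (5 + 3)) :=
    (alternatingGroup (Fin (5 + 3))).subtype.comp (ρ.comp P.subtype)
  have hrange : π.range = alternatingGroup (Fin (5 + 3)) := by
    rw [MonoidHom.range_comp, MonoidHom.range_comp, Subgroup.range_subtype, hρP,
      ← MonoidHom.range_eq_map, Subgroup.range_subtype]
  have hπc : π.ker ≤ Subgroup.center ↥P := by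
    intro p hp
    have h1 : ρ (p : ↥E) = 1 := Subtype.ext (MonoidHom.mem_ker.1 hp)
    exact Subgroup.mem_center_iff.2 fun q => Subtype.ext
      (Subgroup.mem_center_iff.1 (hρc (MonoidHom.mem_ker.2 h1)) (q : ↥E))
  have hcard := DoubleCoverAlt.card_ker_le_two (k := 5) (by norm_num) (by norm_num) (by norm_num) π hrange
    hπc (by rw [hperf]; exact le_top)
  have hA : Nat.card ↥(alternatingGroup (Fin (5 + 3))) * Nat.card π.ker = Nat.card ↥P := by
    rw [← hrange, ← Subgroup.index_ker, mul_comm, Subgroup.card_mul_index]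
  have hP2 : Nat.card ↥P ≤ 2 * Nat.card ↥(alternatingGroup (Fin 8)) := by
    calc Nat.card ↥P = _ := hA.symm
      _ ≤ Nat.card ↥(alternatingGroup (Fin 8)) * 2 := Nat.mul_le_mul_left _ hcard
      _ = _ := mul_comm _ _
  have hfst := bijective_of_fac P hP2 hρP ((MonoidHom.fst H K).comp E.subtype) σ hH hσk rfl
  have hsnd := bijective_of_fac P hP2 hρP ((MonoidHom.snd H K).comp E.subtype) τ hK hτk (MonoidHom.ext fun p => p.2.symm)
  exact ⟨(MulEquiv.ofBijective _ hfst).symm.trans (MulEquiv.ofBijective _ hsnd)⟩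

end Cfsg.Agent.McLCent
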